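import Mathlib.Algebra.DirectSum.Basic
import Mathlib.GroupTheory.QuotientGroup.Basic

/-!
# Cohomology of a direct sum of three-term complexes
-/

universe u v

open DirectSum

namespace Groth.Agent.GrKoszulLib

section classes

variable {ι : Type*} [DecidableEq ι] {A B C H : ι → Type*}
  [∀ i, AddCommGroup (A i)] [∀ i, AddCommGroup (B i)] [∀ i, AddCommGroup (C i)] [∀ i, AddCommGroup (H i)]
  (f : ∀ i, A i →+ B i) (g : ∀ i, B i →+ C i) (q : ∀ i, (g i).ker →+ H i)
  {A' B' C' H' : Type*} [AddCommGroup A'] [AddCommGroup B'] [AddCommGroup C'] [AddCommGroup H']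
  (f' : A' →+ B') (g' : B' →+ C') (q' : g'.ker →+ H')

theorem exists_map_eq {P Q : ι → Type*} [∀ i, AddCommGroup (P i)] [∀ i, AddCommGroup (Q i)]
    (φ : ∀ i, P i →+ Q i) (y : ⨁ i, Q i) (h : ∀ i, y i ∈ (φ i).range) :
    ∃ x : ⨁ i, P i, DirectSum.map φ x = y := by
  classical
  choose p hp using h
  refine ⟨DFinsupp.mk y.support fun i => p i.1, DFinsupp.ext fun i => ?_⟩
  rw [DirectSum.map_apply]
  by_cases hi : i ∈ y.support
  · exact (congrArg (φ i) (DFinsupp.mk_apply.trans (dif_pos hi))).trans (hp i)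
  · exact ((congrArg (φ i) (DFinsupp.mk_apply.trans (dif_neg hi))).trans (map_zero _)).trans
      (DFinsupp.notMem_support_iff.1 hi).symm

/-- The cohomology of a complex isomorphic to a direct sum of complexes. -/
theorem nonempty_directSum_equiv (hq : ∀ i, Function.Surjective (q i))
    (hqk : ∀ i z, q i z = 0 ↔ z.1 ∈ (f i).range)
    (hq' : Function.Surjective q') (hqk' : ∀ z, q' z = 0 ↔ z.1 ∈ f'.range)
    (eA : A' ≃+ ⨁ i, A i) (eB : B' ≃+ ⨁ i, B i) (eC : C' ≃+ ⨁ i, C i)
    (hf : ∀ a, eB (f' a) = DirectSum.map f (eA a)) (hg : ∀ b, eC (g' b) = DirectSum.map g (eB b)) :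
    Nonempty ((⨁ i, H i) ≃+ H') := by
  classical
  let sub : ∀ i, (g i).ker →+ B i := fun i => (g i).ker.subtype
  have hmem : ∀ z : ⨁ i, (g i).ker, eB.symm (DirectSum.map sub z) ∈ g'.ker := fun z => by
    rw [AddMonoidHom.mem_ker, ← eC.map_eq_zero_iff, hg, eB.apply_symm_apply]
    refine DFinsupp.ext fun i => ?_
    rw [DirectSum.map_apply, DirectSum.map_apply]
    exact (z i).2
  let Ψ : (⨁ i, (g i).ker) →+ g'.ker :=
    (eB.symm.toAddMonoidHom.comp (DirectSum.map sub)).codRestrict _ hmem
  let P : (⨁ i, (g i).ker) →+ ⨁ i, H i := DirectSum.map q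
  have hP : Function.Surjective P := fun y => exists_map_eq q y fun i => hq i (y i)
  have hΨ : Function.Surjective Ψ := fun z => by
    have hz : ∀ i, (eB z.1) i ∈ (sub i).range := fun i => by
      have h1 : eC (g' z.1) = 0 := by rw [show g' z.1 = 0 from z.2, map_zero]
      rw [hg] at h1
      exact ⟨⟨(eB z.1) i, (DirectSum.map_apply g i (eB z.1)).symm.trans (DFunLike.congr_fun h1 i)⟩, rfl⟩
    obtain ⟨x, hx⟩ := exists_map_eq sub (eB z.1) hz
    exact ⟨x, Subtype.ext ((congrArg eB.symm hx).trans (eB.symm_apply_apply _))⟩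
  have hk : ∀ z, P z = 0 ↔ q'.comp Ψ z = 0 := fun z => by
    rw [AddMonoidHom.comp_apply, hqk']
    have hbase : P z = 0 ↔ ∀ i, (z i).1 ∈ (f i).range := by
      refine ⟨fun h i => (hqk i _).1 ((DirectSum.map_apply q i z).symm.trans (DFunLike.congr_fun h i)),
        fun h => DFinsupp.ext fun i => ?_⟩
      exact (DirectSum.map_apply q i z).trans ((hqk i _).2 (h i))
    rw [hbase]
    constructor
    · intro h
      obtain ⟨a, ha⟩ := exists_map_eq f (DirectSum.map sub z) fun i => by
        rw [DirectSum.map_apply]; exact h i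
      refine ⟨eA.symm a, eB.injective ?_⟩
      rw [hf, eA.apply_symm_apply, ha]
      exact (eB.apply_symm_apply _).symm
    · rintro ⟨a, ha⟩ i
      refine ⟨(eA a) i, ?_⟩
      have h1 := congrArg eB ha
      rw [hf] at h1
      have h2 : DirectSum.map f (eA a) = DirectSum.map sub z := h1.trans (eB.apply_symm_apply _)
      have h3 := DFunLike.congr_fun h2 i
      rwa [DirectSum.map_apply, DirectSum.map_apply] at h3
  exact ⟨(QuotientAddGroup.quotientKerEquivOfSurjective P hP).symm.trans
    ((QuotientAddGroup.quotientAddEquivOfEq (AddSubgroup.ext hk)).trans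
      (QuotientAddGroup.quotientKerEquivOfSurjective (q'.comp Ψ) (hq'.comp hΨ)))⟩

end classes

section pi

variable {ι : Type*} [DecidableEq ι] {κ : Type*} [Finite κ] (P : ι → κ → Type*) [∀ i k, AddCommGroup (P i k)]

/-- Direct sums commute with finite products. -/
def piHom : (⨁ i, ∀ k, P i k) →+ ∀ k, ⨁ i, P i k :=
  Pi.addMonoidHom fun k => DirectSum.map fun i => Pi.evalAddMonoidHom (P i) k

theorem piHom_apply (x : ⨁ i, ∀ k, P i k) (k : κ) (i : ι) : piHom P x k i = x i k :=
  DirectSum.map_apply _ i x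

theorem bijective_piHom : Function.Bijective (piHom P) := by
  classical
  haveI := Fintype.ofFinite κ
  refine ⟨fun x y h => DFinsupp.ext fun i => funext fun k => ?_, fun y => ?_⟩
  · rw [← piHom_apply P x k i, ← piHom_apply P y k i, h]
  · refine ⟨∑ k, DirectSum.map (fun i => AddMonoidHom.single (P i) k) (y k), funext fun k => DFinsupp.ext fun i => ?_⟩
    rw [piHom_apply, DFinsupp.finsetSum_apply, Finset.sum_apply, Finset.sum_eq_single k]
    · rw [DirectSum.map_apply]
      exact Pi.single_eq_same k _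
    · intro k' _ hk'
      rw [DirectSum.map_apply]
      exact Pi.single_eq_of_ne (Ne.symm hk') _
    · exact fun h => absurd (Finset.mem_univ k) h

end pi

end Groth.Agent.GrKoszulLib
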