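import Groth.Agent.GrTildeLib.Section
import Groth.Agent.KoszulCech.FlasqueCrit
import Groth.Agent.GrKoszulLib.DirectSumCx

/-!
# The localisation of a graded module as the sum of the sections of the twisted sheaves
-/

set_option autoImplicit false
set_option linter.style.haveILetI false
set_option linter.unusedSectionVars false

universe u

open CategoryTheory TopologicalSpace AlgebraicGeometry Opposite DirectSum

noncomputable section

namespace Groth.Agent.GrKoszulLib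

open Groth.Agent.GrTildeLib Groth.Agent.KoszulCech

variable {R A : Type u} [CommRing R] [CommRing A] [Algebra R A] {𝒜 : ℕ → Submodule R A} [GradedAlgebra 𝒜]
variable {M : Type u} [AddCommGroup M] [Module R M] [Module A M]
  {ℳ : ℕ → Submodule R M} [DirectSum.Decomposition ℳ] [SetLike.GradedSMul 𝒜 ℳ]

variable (𝒜 ℳ) in
/-- The sum over all twists of the sections over `V`. -/
abbrev DSect (V : (Proj 𝒜).Opens) : Type u := ⨁ n : ℤ, Γ(GrTilde.tilde 𝒜 ℳ n, V)

variable {d : ℕ} (f : 𝒜 d) {V : (Proj 𝒜).Opens} (hV : V ≤ Proj.basicOpen 𝒜 f.1)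

/-- The powers. -/
def gpw (k : ℕ) : 𝒜 (k * d) := ⟨f.1 ^ k, by simpa [smul_eq_mul] using SetLike.pow_mem_graded k f.2⟩

lemma notMem_pow {x : Proj 𝒜} (h : x ∈ Proj.basicOpen 𝒜 f.1) (k : ℕ) :
    f.1 ^ k ∉ x.asHomogeneousIdeal := fun hm => h (x.isPrime.mem_of_pow_mem k hm)

include hV in
lemma le_gpw (k : ℕ) : V ≤ Proj.basicOpen 𝒜 (gpw f k).1 := fun _ hx => notMem_pow f (hV hx) k

variable (ℳ) in
/-- The fractions with denominator `f ^ k`. -/
def fracHom (k i : ℕ) : ℳ i →+ Γ(GrTilde.tilde 𝒜 ℳ ((i : ℤ) - (k * d : ℕ)), V) :=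
  AddMonoidHom.mk' (fun m => frac 𝒜 ℳ m (gpw f k) _ (by push_cast; ring) (le_gpw f hV k)) fun m m' => by
    refine sect_ext fun x => ?_
    rw [valAt_add, valAt_frac, valAt_frac, valAt_frac, LocalizedModule.mk_add_mk, LocalizedModule.mk_eq]
    refine ⟨1, ?_⟩
    simp only [one_smul, Submonoid.smul_def, Submonoid.coe_mul, AddMemClass.coe_add, smul_add, mul_smul]

variable (ℳ) in
/-- The element of the sum given by an element of `M` and a power of `f`. -/
def num (k : ℕ) : M →+ DSect 𝒜 ℳ V :=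
  (DirectSum.toAddMonoid fun i : ℕ => (DirectSum.of (fun n : ℤ => Γ(GrTilde.tilde 𝒜 ℳ n, V))
    ((i : ℤ) - (k * d : ℕ))).comp (fracHom ℳ f hV k i)).comp (DirectSum.decomposeAddEquiv ℳ).toAddMonoidHom

theorem num_of_mem (k : ℕ) {i : ℕ} (m : ℳ i) :
    num ℳ f hV k m.1 = DirectSum.of (fun n : ℤ => Γ(GrTilde.tilde 𝒜 ℳ n, V))
      ((i : ℤ) - (k * d : ℕ)) (fracHom ℳ f hV k i m) := by
  show DirectSum.toAddMonoid _ (DirectSum.decompose ℳ m.1) = _
  rw [DirectSum.decompose_coe, DirectSum.toAddMonoid_of]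
  rfl

theorem of_frac_congr {i j i' j' : ℕ} (m : ℳ i) (s : 𝒜 j) (m' : ℳ i') (s' : 𝒜 j') {n n' : ℤ} (hn : n = n')
    (h : (i : ℤ) = j + n) (h' : (i' : ℤ) = j' + n') {W : (Proj 𝒜).Opens}
    (hW : W ≤ Proj.basicOpen 𝒜 s.1) (hW' : W ≤ Proj.basicOpen 𝒜 s'.1) (e : s'.1 • m.1 = s.1 • m'.1) :
    DirectSum.of (fun n : ℤ => Γ(GrTilde.tilde 𝒜 ℳ n, W)) n (frac 𝒜 ℳ m s n h hW) =
      DirectSum.of (fun n : ℤ => Γ(GrTilde.tilde 𝒜 ℳ n, W)) n' (frac 𝒜 ℳ m' s' n' h' hW') := by
  subst hn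
  refine congrArg _ (sect_ext fun x => LocalizedModule.mk_eq.2 ⟨1, ?_⟩)
  simp only [one_smul]
  exact e

/-- Restriction on the sum. -/
abbrev resD {V W : (Proj 𝒜).Opens} (h : W ≤ V) : DSect 𝒜 ℳ V →+ DSect 𝒜 ℳ W :=
  DirectSum.map fun n => ((GrTilde.tilde 𝒜 ℳ n).presheaf.map (homOfLE h).op).hom

theorem num_smul_pow (k l : ℕ) (m : M) : num ℳ f hV (k + l) (f.1 ^ l • m) = num ℳ f hV k m := by
  induction m using DirectSum.Decomposition.inductionOn ℳ with
  | zero => simp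
  | add a b ha hb => rw [smul_add, map_add, map_add, ha, hb]
  | @homogeneous i m =>
    let m' : ℳ (l * d + i) := ⟨f.1 ^ l • m.1, SetLike.GradedSMul.smul_mem (gpw f l).2 m.2⟩
    refine (num_of_mem f hV (k + l) m').trans (Eq.trans ?_ (num_of_mem f hV k m).symm)
    refine of_frac_congr m' (gpw f (k + l)) m (gpw f k) (by push_cast; ring) (by push_cast; ring)
      (by push_cast; ring) (le_gpw f hV (k + l)) (le_gpw f hV k) ?_
    show f.1 ^ k • f.1 ^ l • m.1 = f.1 ^ (k + l) • m.1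
    rw [smul_smul, pow_add]

theorem resD_num {e : ℕ} (h : 𝒜 e) (f' : 𝒜 (d + e)) (hf' : f'.1 = f.1 * h.1) {W : (Proj 𝒜).Opens}
    (hW : W ≤ Proj.basicOpen 𝒜 f'.1) (hWV : W ≤ V) (k : ℕ) (m : M) :
    resD hWV (num ℳ f hV k m) = num ℳ f' hW k (h.1 ^ k • m) := by
  induction m using DirectSum.Decomposition.inductionOn ℳ with
  | zero => simp
  | add a b ha hb => rw [smul_add, map_add, map_add, map_add, ha, hb]
  | @homogeneous i m =>
    let m' : ℳ (k * e + i) := ⟨h.1 ^ k • m.1, SetLike.GradedSMul.smul_mem (gpw h k).2 m.2⟩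
    refine Eq.trans ?_ (num_of_mem f' hW k m').symm
    rw [num_of_mem f hV k m]
    refine (DirectSum.map_of _ _ _).trans ?_
    refine of_frac_congr m (gpw f k) m' (gpw f' k) (by push_cast; ring) (by push_cast; ring) (by push_cast; ring)
      (hWV.trans (le_gpw f hV k)) (le_gpw f' hW k) ?_
    show f'.1 ^ k • m.1 = f.1 ^ k • h.1 ^ k • m.1
    rw [smul_smul, hf', mul_pow]

theorem num_apply (k i : ℕ) (m : M) :
    num ℳ f hV k m ((i : ℤ) - (k * d : ℕ)) = fracHom ℳ f hV k i (DirectSum.decompose ℳ m i) := by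
  induction m using DirectSum.Decomposition.inductionOn ℳ with
  | zero => simp
  | add a b ha hb => rw [map_add, DirectSum.decompose_add, DirectSum.add_apply, DirectSum.add_apply, map_add, ha, hb]
  | @homogeneous j m =>
    rw [num_of_mem, DirectSum.decompose_coe]
    by_cases hj : j = i
    · subst hj
      rw [DirectSum.of_eq_same, DirectSum.of_eq_same]
    · rw [DirectSum.of_eq_of_ne _ _ _ (fun h => hj (by omega)), DirectSum.of_eq_of_ne _ _ _ (fun h => hj h.symm), map_zero]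

section basic

variable (hd : 0 < d)
include hd

theorem exists_pow_smul_eq_zero_of_num (heq : V = Proj.basicOpen 𝒜 f.1) (k : ℕ) (m : M)
    (h : num ℳ f hV k m = 0) : ∃ N : ℕ, f.1 ^ N • m = 0 := by
  classical
  subst heq
  have hN : ∀ i, ∃ N : ℕ, f.1 ^ N • (DirectSum.decompose ℳ m i : M) = 0 := fun i => by
    refine exists_pow_smul_eq_zero' hd f.2 (DirectSum.decompose ℳ m i)
      (fun x => ⟨f.1 ^ k, notMem_pow f x.2 k⟩) fun x => ?_
    have h1 : fracHom ℳ f hV k i (DirectSum.decompose ℳ m i) = 0 := by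
      rw [← num_apply f hV k i m, h]
      rfl
    exact congrArg (fun s => valAt s x) h1
  choose N hN using hN
  refine ⟨(DirectSum.decompose ℳ m).support.sup N, ?_⟩
  refine Eq.trans (congrArg (f.1 ^ _ • ·) (DirectSum.sum_support_decompose ℳ m).symm) ?_
  simp only [Finset.smul_sum]
  refine Finset.sum_eq_zero fun i hi => ?_
  have hle : N i ≤ (DirectSum.decompose ℳ m).support.sup N := Finset.le_sup hi
  rw [← Nat.sub_add_cancel hle, pow_add, mul_smul, hN, smul_zero]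

theorem exists_num_eq (heq : V = Proj.basicOpen 𝒜 f.1) (y : DSect 𝒜 ℳ V) :
    ∃ (k : ℕ) (m : M), num ℳ f hV k m = y := by
  subst heq
  induction y using DirectSum.induction_on with
  | zero => exact ⟨0, 0, map_zero _⟩
  | of n s =>
    obtain ⟨p, i, m, hi, hs⟩ := exists_frac_eq hd f.2 s
    refine ⟨p, m.1, (num_of_mem f hV p m).trans ?_⟩
    obtain rfl : n = (i : ℤ) - (p * d : ℕ) := by push_cast; linarith
    exact congrArg _ (sect_ext fun x => (hs x).symm)
  | add a b ha hb =>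
    obtain ⟨k, m, rfl⟩ := ha
    obtain ⟨k', m', rfl⟩ := hb
    refine ⟨k + k', f.1 ^ k' • m + f.1 ^ k • m', ?_⟩
    rw [map_add, num_smul_pow, add_comm k k', num_smul_pow]

end basic

section theta

variable {W : Opens (PrimeSpectrum A)}
  (hW : IsLocalizedModule (Submonoid.powers f.1) (tO (ModuleCat.of A M) W))
include hW

theorem exists_rep (x : (tP (ModuleCat.of A M)).obj (op W)) :
    ∃ (k : ℕ) (m : M), f.1 ^ k • x = tO (ModuleCat.of A M) W m := by
  haveI := hW
  obtain ⟨⟨m, ⟨_, k, rfl⟩⟩, h⟩ := IsLocalizedModule.surj (Submonoid.powers f.1) (tO (ModuleCat.of A M) W) x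
  exact ⟨k, m, h⟩

variable (ℳ) in
/-- The comparison map on the localisation. -/
def thetaFun (x : (tP (ModuleCat.of A M)).obj (op W)) : DSect 𝒜 ℳ V :=
  num ℳ f hV (exists_rep f hW x).choose (exists_rep f hW x).choose_spec.choose

theorem thetaFun_spec {x : (tP (ModuleCat.of A M)).obj (op W)} {k : ℕ} {m : M}
    (h : f.1 ^ k • x = tO (ModuleCat.of A M) W m) : thetaFun ℳ f hV hW x = num ℳ f hV k m := by
  haveI := hW
  obtain ⟨l, m', h', he⟩ : ∃ l m', f.1 ^ l • x = tO (ModuleCat.of A M) W m' ∧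
      thetaFun ℳ f hV hW x = num ℳ f hV l m' :=
    ⟨_, _, (exists_rep f hW x).choose_spec.choose_spec, rfl⟩
  rw [he]
  obtain ⟨⟨_, a, rfl⟩, ha⟩ := IsLocalizedModule.exists_of_eq (S := Submonoid.powers f.1)
    (f := tO (ModuleCat.of A M) W) (x₁ := f.1 ^ k • m') (x₂ := f.1 ^ l • m)
    (((map_smul _ _ _).trans (by rw [← h', ← h, smul_smul, smul_smul, mul_comm])).trans (map_smul _ _ _).symm)
  have ha' : f.1 ^ (a + k) • m' = f.1 ^ (a + l) • m := by
    rw [pow_add, pow_add, mul_smul, mul_smul]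
    exact ha
  calc num ℳ f hV l m' = num ℳ f hV (l + (a + k)) (f.1 ^ (a + k) • m') := (num_smul_pow f hV l _ _).symm
    _ = num ℳ f hV (k + (a + l)) (f.1 ^ (a + l) • m) := by rw [ha']; congr 2; ring
    _ = num ℳ f hV k m := num_smul_pow f hV k _ _

variable (ℳ) in
/-- The comparison map. -/
def theta : (tP (ModuleCat.of A M)).obj (op W) →+ DSect 𝒜 ℳ V :=
  AddMonoidHom.mk' (thetaFun ℳ f hV hW) fun x y => by
    obtain ⟨k, m, hx⟩ := exists_rep f hW x
    obtain ⟨l, m', hy⟩ := exists_rep f hW y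
    rw [thetaFun_spec f hV hW hx, thetaFun_spec f hV hW hy,
      thetaFun_spec f hV hW (k := k + l) (m := f.1 ^ l • m + f.1 ^ k • m'),
      map_add, num_smul_pow, add_comm k l, num_smul_pow]
    rw [map_add, map_smul, map_smul, ← hx, ← hy, smul_add, smul_smul, smul_smul, ← pow_add, ← pow_add,
      add_comm l k]

theorem theta_spec {x : (tP (ModuleCat.of A M)).obj (op W)} {k : ℕ} {m : M}
    (h : f.1 ^ k • x = tO (ModuleCat.of A M) W m) : theta ℳ f hV hW x = num ℳ f hV k m :=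
  thetaFun_spec f hV hW h

theorem bijective_theta (hd : 0 < d) (heq : V = Proj.basicOpen 𝒜 f.1) :
    Function.Bijective (theta ℳ f hV hW) := by
  haveI := hW
  refine ⟨(injective_iff_map_eq_zero _).2 fun x hx => ?_, fun y => ?_⟩
  · obtain ⟨k, m, h⟩ := exists_rep f hW x
    rw [theta_spec f hV hW h] at hx
    obtain ⟨N, hN⟩ := exists_pow_smul_eq_zero_of_num f hV hd heq k m hx
    refine ((Module.End.isUnit_iff _).1 (IsLocalizedModule.map_units (tO (ModuleCat.of A M) W)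
      (⟨_, N + k, rfl⟩ : Submonoid.powers f.1))).1 ?_
    show f.1 ^ (N + k) • x = f.1 ^ (N + k) • 0
    rw [smul_zero, pow_add, mul_smul, h, ← map_smul, hN, map_zero]
  · obtain ⟨k, m, rfl⟩ := exists_num_eq f hV hd heq y
    obtain ⟨x, hx⟩ := ((Module.End.isUnit_iff _).1 (IsLocalizedModule.map_units (tO (ModuleCat.of A M) W)
      (⟨_, k, rfl⟩ : Submonoid.powers f.1))).2 (tO (ModuleCat.of A M) W m)
    exact ⟨x, theta_spec f hV hW hx⟩

theorem resD_theta {e : ℕ} (h : 𝒜 e) (f' : 𝒜 (d + e)) (hf' : f'.1 = f.1 * h.1) {V' : (Proj 𝒜).Opens}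
    (hV' : V' ≤ Proj.basicOpen 𝒜 f'.1) (hVV : V' ≤ V) {W' : Opens (PrimeSpectrum A)}
    (hW' : IsLocalizedModule (Submonoid.powers f'.1) (tO (ModuleCat.of A M) W')) (hWW : W' ≤ W)
    (x : (tP (ModuleCat.of A M)).obj (op W)) :
    resD hVV (theta ℳ f hV hW x) = theta ℳ f' hV' hW' ((tP (ModuleCat.of A M)).map (homOfLE hWW).op x) := by
  obtain ⟨k, m, hx⟩ := exists_rep f hW x
  rw [theta_spec f hV hW hx, resD_num f hV h f' hf' hV' hVV, theta_spec f' hV' hW' (k := k) (m := h.1 ^ k • m)]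
  rw [hf', mul_comm, mul_pow, mul_smul, ← map_smul, hx, map_smul]
  exact congrArg (h.1 ^ k • ·) (tO_res (ModuleCat.of A M) hWW m)

end theta

end Groth.Agent.GrKoszulLib
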