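import Groth.Agent.GrKoszulLib.Frac
import Groth.Agent.GrTildeLib.QCoh
import Groth.Agent.KoszulCech.SpecSupp
import Mathlib.AlgebraicGeometry.ProjectiveSpectrum.Proper

/-!
# Cohomology of the twisted sheaves on the union of basic opens and the Koszul complexes
-/

set_option autoImplicit false
set_option linter.style.haveILetI false
set_option linter.unusedSectionVars false
set_option maxHeartbeats 1000000

universe u

open CategoryTheory CategoryTheory.Limits TopologicalSpace AlgebraicGeometry Opposite DirectSum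

noncomputable section

namespace Groth.Agent.GrKoszulLib

open Groth.Agent.GrTildeLib Groth.Agent.KoszulCech Groth.Agent.CohBase

variable {R A : Type u} [CommRing R] [CommRing A] [Algebra R A] {𝒜 : ℕ → Submodule R A} [GradedAlgebra 𝒜]
variable {M : Type u} [AddCommGroup M] [Module R M] [Module A M]
  {ℳ : ℕ → Submodule R M} [DirectSum.Decomposition ℳ] [SetLike.GradedSMul 𝒜 ℳ]

theorem resD_theta' {d e d' : ℕ} (f : 𝒜 d) (h : 𝒜 e) (f' : 𝒜 d') (hdeg : d' = d + e) (hf' : f'.1 = f.1 * h.1)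
    {V : (Proj 𝒜).Opens} (hV : V ≤ Proj.basicOpen 𝒜 f.1) {W : Opens (PrimeSpectrum A)}
    (hW : IsLocalizedModule (Submonoid.powers f.1) (tO (ModuleCat.of A M) W))
    {V' : (Proj 𝒜).Opens} (hV' : V' ≤ Proj.basicOpen 𝒜 f'.1) (hVV : V' ≤ V) {W' : Opens (PrimeSpectrum A)}
    (hW' : IsLocalizedModule (Submonoid.powers f'.1) (tO (ModuleCat.of A M) W')) (hWW : W' ≤ W)
    (x : (tP (ModuleCat.of A M)).obj (op W)) :
    resD hVV (theta ℳ f hV hW x) = theta ℳ f' hV' hW' ((tP (ModuleCat.of A M)).map (homOfLE hWW).op x) := by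
  subst hdeg
  exact resD_theta f hV hW h f' hf' hV' hVV hW' hWW x

variable {J : Type} {deg : J → ℕ} (F : ∀ a, 𝒜 (deg a))

/-- The product over a tuple. -/
def gTup {n : ℕ} (i : Fin n → ULift.{u} J) : 𝒜 (∑ a, deg (i a).down) :=
  ⟨∏ a, (F (i a).down).1, SetLike.prod_mem_graded (A := 𝒜) (fun a => deg (i a).down) (fun a => (F (i a).down).1)
    fun a _ => (F (i a).down).2⟩

/-- The basic opens on the projective spectrum. -/
abbrev UP : ULift.{u} J → (Proj 𝒜).Opens := fun a => Proj.basicOpen 𝒜 (F a.down).1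

/-- The basic opens on the cone. -/
abbrev US : ULift.{u} J → Opens (PrimeSpectrum A) := fun a => PrimeSpectrum.basicOpen (F a.down).1

theorem inter_UP {n : ℕ} (i : Fin n → ULift.{u} J) : inter (UP F) i = Proj.basicOpen 𝒜 (gTup F i).1 := by
  refine le_antisymm (fun x hx hm => ?_) (le_iInf fun a x hx hm => ?_)
  · replace hm : ∏ a, (F (i a).down).1 ∈ x.asHomogeneousIdeal.toIdeal := hm
    obtain ⟨a, -, ha⟩ := x.isPrime.prod_mem_iff.1 hm
    exact inter_le (UP F) i a hx ha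
  · exact hx (x.isPrime.prod_mem_iff.2 ⟨a, Finset.mem_univ _, hm⟩)

theorem inter_US {n : ℕ} (i : Fin n → ULift.{u} J) : inter (US F) i = PrimeSpectrum.basicOpen (gTup F i).1 := by
  refine le_antisymm (fun x hx hm => ?_) (le_iInf fun a x hx hm => ?_)
  · replace hm : ∏ a, (F (i a).down).1 ∈ x.asIdeal := hm
    obtain ⟨a, -, ha⟩ := x.isPrime.prod_mem_iff.1 hm
    exact inter_le (US F) i a hx ha
  · exact hx (x.isPrime.prod_mem_iff.2 ⟨a, Finset.mem_univ _, hm⟩)

theorem loc_inter {n : ℕ} (i : Fin n → ULift.{u} J) :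
    IsLocalizedModule (Submonoid.powers (gTup F i).1) (tO (ModuleCat.of A M) (inter (US F) i)) := by
  rw [inter_US]
  exact loc_tO _ _

variable (ℳ) in
/-- The presheaves of the twists. -/
abbrev QP (n : ℤ) : ((Proj 𝒜).Opens)ᵒᵖ ⥤ AddCommGrpCat.{u} := (Coh.toAb (GrTilde.tilde 𝒜 ℳ n)).obj

/-- The presheaf on the cone. -/
abbrev QS : (Opens (PrimeSpectrum A))ᵒᵖ ⥤ AddCommGrpCat.{u} := toQ (tP (ModuleCat.of A M))

variable (ℳ) in
/-- The comparison on cochains, componentwise. -/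
def TT (m : ℕ) : CC (US F) (QS (M := M)) m →+ ∀ i : Fin (m + 1) → ULift.{u} J, DSect 𝒜 ℳ (inter (UP F) i) :=
  Pi.addMonoidHom fun i => (theta ℳ (gTup F i) (inter_UP F i).le (loc_inter F i)).comp (Pi.evalAddMonoidHom _ i)

theorem bijective_TT (hdeg : ∀ a, 0 < deg a) (m : ℕ) : Function.Bijective (TT ℳ F m) := by
  have h : ∀ i : Fin (m + 1) → ULift.{u} J,
      Function.Bijective (theta ℳ (gTup F i) (inter_UP F i).le (loc_inter (M := M) F i)) := fun i =>
    bijective_theta _ _ _ (Finset.sum_pos (fun a _ => hdeg _) Finset.univ_nonempty) (inter_UP F i)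
  exact ⟨fun x y e => funext fun i => (h i).1 (congr_fun e i),
    fun y => ⟨fun i => ((h i).2 (y i)).choose, funext fun i => ((h i).2 (y i)).choose_spec⟩⟩

theorem exists_cochainEquiv [Finite J] (hdeg : ∀ a, 0 < deg a) (m : ℕ) :
    ∃ E : CC (US F) (QS (M := M)) m ≃+ ⨁ n : ℤ, CC (UP F) (QP ℳ n) m,
      ∀ c i, TT ℳ F m c i = DirectSum.map (fun n => Pi.evalAddMonoidHom (fun i => (QP ℳ n).obj (op (inter (UP F) i))) i) (E c) := by
  let P : ℤ → (Fin (m + 1) → ULift.{u} J) → Type u := fun n i => (QP ℳ n).obj (op (inter (UP F) i))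
  let T := AddEquiv.ofBijective (TT ℳ F m) (bijective_TT F hdeg m)
  let S := AddEquiv.ofBijective (piHom P) (bijective_piHom P)
  refine ⟨T.trans S.symm, fun c i => ?_⟩
  exact (congr_fun (S.apply_symm_apply (T c)) i).symm

theorem cochainEquiv_cdiff {m : ℕ} (E : CC (US F) (QS (M := M)) m ≃+ ⨁ n : ℤ, CC (UP F) (QP ℳ n) m)
    (E' : CC (US F) (QS (M := M)) (m + 1) ≃+ ⨁ n : ℤ, CC (UP F) (QP ℳ n) (m + 1))
    (hE : ∀ c i, TT ℳ F m c i = DirectSum.map (fun n => Pi.evalAddMonoidHom (fun i => (QP ℳ n).obj (op (inter (UP F) i))) i) (E c))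
    (hE' : ∀ c i, TT ℳ F (m + 1) c i = DirectSum.map (fun n => Pi.evalAddMonoidHom (fun i => (QP ℳ n).obj (op (inter (UP F) i))) i) (E' c))
    (c : CC (US F) (QS (M := M)) m) :
    E' (cdiff (US F) QS m c) = DirectSum.map (fun n => cdiff (UP F) (QP ℳ n) m) (E c) := by
  refine DFinsupp.ext fun n => funext fun i => ?_
  rw [DirectSum.map_apply]
  have h1 := (DFunLike.congr_fun (hE' (cdiff (US F) QS m c) i) n).trans (DirectSum.map_apply _ n _)
  refine h1.symm.trans ?_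
  show theta ℳ (gTup F i) (inter_UP F i).le (loc_inter F i) (cdiff (US F) QS m c i) n = cdiff (UP F) (QP ℳ n) m (E c n) i
  rw [cdiff_apply, cdiff_apply, map_sum, DFinsupp.finsetSum_apply]
  refine Finset.sum_congr rfl fun j _ => ?_
  rw [map_zsmul, DFinsupp.smul_apply]
  refine congrArg (((-1 : ℤ) ^ (j : ℕ)) • ·) ?_
  have h2 := resD_theta' (ℳ := ℳ) (gTup F (i ∘ j.succAbove)) (F (i j).down) (gTup F i)
    ((Fin.sum_univ_succAbove _ j).trans (add_comm _ _)) ((Fin.prod_univ_succAbove _ j).trans (mul_comm _ _))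
    (inter_UP F _).le (loc_inter F _) (inter_UP F i).le (inter_comp_le (UP F) i j.succAbove)
    (loc_inter F i) (inter_comp_le (US F) i j.succAbove) (c (i ∘ j.succAbove))
  refine (DFunLike.congr_fun h2 n).symm.trans ?_
  rw [DirectSum.map_apply]
  refine congrArg _ ?_
  exact (DFunLike.congr_fun (hE c (i ∘ j.succAbove)) n).trans (DirectSum.map_apply _ n _)

theorem nonempty_cech_equiv_directSum [Finite J] (hdeg : ∀ a, 0 < deg a) (m : ℕ) :
    Nonempty ((⨁ n : ℤ, ((cK (UP F) (QP ℳ n)).homology (m + 1) : AddCommGrpCat.{u})) ≃+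
      ((cK (US F) (QS (M := M))).homology (m + 1) : AddCommGrpCat.{u})) := by
  obtain ⟨EA, hA⟩ := exists_cochainEquiv (ℳ := ℳ) F hdeg m
  obtain ⟨EB, hB⟩ := exists_cochainEquiv (ℳ := ℳ) F hdeg (m + 1)
  obtain ⟨EC, hC⟩ := exists_cochainEquiv (ℳ := ℳ) F hdeg (m + 1 + 1)
  choose q hq hqk using fun n : ℤ => exists_cech_classes (UP F) (QP ℳ n) (m + 1)
  obtain ⟨q', hq', hqk'⟩ := exists_cech_classes (US F) (QS (M := M)) (m + 1)
  exact nonempty_directSum_equiv (fun n => cdiff (UP F) (QP ℳ n) m) (fun n => cdiff (UP F) (QP ℳ n) (m + 1)) q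
    (cdiff (US F) QS m) (cdiff (US F) QS (m + 1)) q' hq hqk hq' hqk' EA EB EC
    (cochainEquiv_cdiff F EA EB hA hB) (cochainEquiv_cdiff F EB EC hB hC)

/-- The main comparison. -/
theorem nonempty_HHon_koszulHLim (𝒜 : ℕ → Submodule R A) [GradedAlgebra 𝒜] (fs : List A)
    (hfs : ∀ a ∈ fs, ∃ d : ℕ, 0 < d ∧ a ∈ 𝒜 d) (ℳ : ℕ → Submodule R M) [DirectSum.Decomposition ℳ]
    [SetLike.GradedSMul 𝒜 ℳ] (p : ℕ) (hp : 1 ≤ p) :
    Nonempty (DirectSum ℤ (fun n : ℤ => Coh.HHon (Proj 𝒜) (GrTilde.tilde 𝒜 ℳ n)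
        (⨆ i : Fin fs.length, Proj.basicOpen 𝒜 (fs.get i)) p) ≃+
      CohIII.koszulHLim fs (ModuleCat.of A M) (p + 1)) := by
  obtain ⟨m, rfl⟩ : ∃ m, p = m + 1 := ⟨p - 1, by omega⟩
  choose deg hdeg hmem using fun i : Fin fs.length => hfs (fs.get i) (List.get_mem _ i)
  let F : ∀ a : Fin fs.length, 𝒜 (deg a) := fun a => ⟨fs.get a, hmem a⟩
  let V : (Proj 𝒜).Opens := ⨆ i : Fin fs.length, Proj.basicOpen 𝒜 (fs.get i)
  have hn : ∀ n : ℤ, Nonempty (Coh.HHon (Proj 𝒜) (GrTilde.tilde 𝒜 ℳ n) V (m + 1) ≃+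
      ((cK (UP F) (QP ℳ n)).homology (m + 1) : AddCommGrpCat.{u})) := fun n => by
    haveI : Coh.IsQCoh (GrTilde.tilde 𝒜 ℳ n) := isQCoh_tilde n
    have hle : ∀ i, UP F i ≤ V := fun i => le_iSup (fun i : Fin fs.length => Proj.basicOpen 𝒜 (fs.get i)) i.down
    have hcov : V ≤ iSup (UP F) := iSup_le fun i => le_iSup (UP F) ⟨i⟩
    have hac : Acyclic (UP F) (Coh.toAb (GrTilde.tilde 𝒜 ℳ n)) := acyclic_of_affine _ _ fun k i => by
      rw [inter_UP]
      exact Proj.isAffineOpen_basicOpen 𝒜 _ (gTup F i).2 (Finset.sum_pos (fun a _ => hdeg _) Finset.univ_nonempty)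
    obtain ⟨e₁⟩ := OpenRestrH.nonempty_HHon_equiv (Proj 𝒜) (GrTilde.tilde 𝒜 ℳ n) V (m + 1)
    obtain ⟨e₂⟩ := CechOpenLib.cechH_iso (UP F) hle hcov hac (m + 1)
    exact ⟨e₁.symm.trans e₂.symm⟩
  let en := fun n => (hn n).some
  let M' := ModuleCat.of A M
  let l := fs.map fun a => PrimeSpectrum.basicOpen a
  let σ : ULift.{u} (Fin fs.length) ≃ Fin l.length := Equiv.ulift.trans (finCongr (by simp [l]))
  have hU : ∀ i, US F i = fam l (σ i) := fun i => by
    rw [fam_eq_get]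
    simp [σ, l, F]
  let t : M' ⟶ (tP M').obj (op (⊤ : Opens (PrimeSpectrum A))) := tilde.toOpen (R := CommRingCat.of A) M' ⊤
  haveI : IsIso t := tilde.isIso_toOpen_top (R := CommRingCat.of A) (M := M')
  obtain ⟨e⟩ := nonempty_koszulHLim_equiv_cech (setting_tilde M') (a := 1) (W := ⊤)
    PrimeSpectrum.basicOpen_one (asIso t) fs (m + 2)
  obtain ⟨e'⟩ := KoszulCech.nonempty_cech_equiv (tP M') (US F) σ hU m (((m + 2 : ℕ) : ℤ) - fs.length) (by simp [l])
  obtain ⟨e''⟩ := nonempty_cech_equiv_directSum (M := M) (ℳ := ℳ) F hdeg m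
  exact ⟨(AddEquiv.trans (DirectSum.congrAddEquiv en) e'').trans (e'.trans e.toAddEquiv.symm)⟩

end Groth.Agent.GrKoszulLib
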